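import Groth.Agent.Lib.HensPrep1.Prep
import Mathlib

/-!
# Invertible modules over `R[s]` and over `R{t}[1/t]`, `s = t⁻¹`
-/

universe u

open Polynomial TensorProduct

namespace GrothLib.HensPrep1

theorem smul_comm_of_invertible {A : Type u} [CommRing A] {M : Type u} [AddCommGroup M] [Module A M]
    [Module.Invertible A M] (φ : M →ₗ[A] A) (x y : M) : φ x • y = φ y • x := by
  have h := congrArg (fun z => TensorProduct.lid A M (φ.rTensor M z)) (Module.Invertible.tmul_comm (R := A) (m₁ := x) (m₂ := y))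
  simpa using h

theorem injective_of_regular {A : Type u} [CommRing A] {M : Type u} [AddCommGroup M] [Module A M]
    [Module.Invertible A M] (φ : M →ₗ[A] A) {h : A} (e : M) (he : φ e = h) (hreg : ∀ a, a * h = 0 → a = 0) :
    Function.Injective φ := by
  rw [injective_iff_map_eq_zero]
  intro x hx
  have h1 : h • x = 0 := by rw [← he, smul_comm_of_invertible φ e x, hx, zero_smul]
  refine (Module.forall_dual_apply_eq_zero_iff A x).1 fun θ => hreg _ ?_
  rw [mul_comm, ← smul_eq_mul, ← map_smul, h1, map_zero]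

theorem eq_zero_of_mul_eq_zero_of_coeff {A : Type u} [CommRing A] {h : A[X]} (hh : IsUnit (h.coeff 0)) (a : A[X])
    (ha : a * h = 0) : a = 0 := by
  ext n
  rw [coeff_zero]
  induction n using Nat.strong_induction_on with
  | _ n ih =>
    have h1 := congrArg (fun p => p.coeff n) ha
    simp only [coeff_mul, coeff_zero] at h1
    rw [Finset.sum_eq_single (n, 0)] at h1
    · exact hh.mul_left_eq_zero.1 h1
    · rintro ⟨i, j⟩ hij hne
      rw [Finset.HasAntidiagonal.mem_antidiagonal] at hij
      dsimp only at hij ⊢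
      rcases lt_or_ge i n with hi | hi
      · rw [ih i hi, zero_mul]
      · exact absurd (Prod.ext (by dsimp only; omega) (by dsimp only; omega)) hne
    · intro h2; exact absurd (Finset.HasAntidiagonal.mem_antidiagonal.2 (add_zero n)) h2

theorem isUnit_coeff_zero_of_mem {R : Type u} [CommRing R] [IsLocalRing R] {h z : R[X]}
    (hz : z ∈ (IsLocalRing.maximalIdeal R).map (algebraMap R R[X])) (hhz : h + z = 1) : IsUnit (h.coeff 0) := by
  have h1 := Ideal.mem_map_C_iff.1 hz 0
  have h2 := congrArg (fun p => p.coeff 0) hhz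
  simp only [coeff_add, coeff_one_zero] at h2
  rw [eq_sub_of_add_eq h2]
  exact IsLocalRing.isUnit_one_sub_self_of_mem_nonunits _ h1

variable {R : Type u} [CommRing R] [HenselianLocalRing R] {B : Type u} [CommRing B] [Algebra R B] [Algebra R[X] B]
  [IsScalarTower R R[X] B] (hB : Hens2.IsPairHenselization R[X] (Ideal.span {(X : R[X])}) B)
  {L : Type u} [CommRing L] [Algebra B L] [IsLocalization.Away (algebraMap R[X] B X) L]
  [Algebra R L] [IsScalarTower R B L] [Algebra R[X] L] [IsScalarTower R R[X] L]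
  (hs : algebraMap R[X] L X * algebraMap B L (algebraMap R[X] B X) = 1)

include hs in
theorem refl_rel (N : ℕ) (a : R[X]) (ha : a.natDegree ≤ N) :
    algebraMap R[X] L (a.reflect N) * algebraMap B L (algebraMap R[X] B X) ^ N =
      algebraMap B L (algebraMap R[X] B a) := by
  have hC : ∀ c, algebraMap R[X] L (C c) = algebraMap B L (algebraMap R[X] B (C c)) := fun c => by
    rw [← Polynomial.algebraMap_eq, ← IsScalarTower.algebraMap_apply R R[X] L,
      ← IsScalarTower.algebraMap_apply R R[X] B, ← IsScalarTower.algebraMap_apply R B L]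
  refine Polynomial.induction_with_natDegree_le
    (fun a => algebraMap R[X] L (a.reflect N) * algebraMap B L (algebraMap R[X] B X) ^ N =
      algebraMap B L (algebraMap R[X] B a)) N (by simp) ?_ ?_ a ha
  · intro i c _ hi
    rw [Polynomial.reflect_C_mul_X_pow, Polynomial.revAt_le hi]
    simp only [map_mul, map_pow, hC, mul_assoc]
    congr 1
    obtain ⟨j, rfl⟩ := Nat.exists_eq_add_of_le hi
    rw [Nat.add_sub_cancel_left, pow_add, mul_comm (_ ^ i), ← mul_assoc, ← mul_pow, hs, one_pow, one_mul]
  · intro p q _ _ hp hq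
    simp only [Polynomial.reflect_add, map_add, add_mul, hp, hq]

include hB in
theorem fibre_ne_top : (IsLocalRing.maximalIdeal R).map (algebraMap R L) ≠ ⊤ := by
  intro h
  rw [Ideal.eq_top_iff_one, IsScalarTower.algebraMap_eq R B L, ← Ideal.map_map,
    IsLocalization.mem_map_algebraMap_iff (Submonoid.powers (algebraMap R[X] B X))] at h
  obtain ⟨⟨⟨a, ha⟩, ⟨_, n, rfl⟩⟩, has⟩ := h
  rw [one_mul] at has
  obtain ⟨⟨_, l, rfl⟩, hl⟩ := (IsLocalization.eq_iff_exists (Submonoid.powers (algebraMap R[X] B X)) L).1 has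
  simp only at hl
  have hmem : algebraMap R[X] B (X ^ (l + n)) ∈ (IsLocalRing.maximalIdeal R).map (algebraMap R B) ⊔
      Ideal.span {algebraMap R[X] B X ^ (l + n + 1)} := by
    rw [map_pow, show algebraMap R[X] B X ^ (l + n) = algebraMap R[X] B X ^ l * a from (pow_add _ _ _).trans hl]
    exact Submodule.mem_sup_left (Ideal.mul_mem_left _ _ ha)
  have := mem_sup_X_pow_iff.1 (mem_of_algebraMap_mem hB hmem) (l + n) (Nat.lt_succ_self _)
  rw [coeff_X_pow_self] at this
  exact (IsLocalRing.maximalIdeal.isMaximal R).ne_top ((Ideal.eq_top_iff_one _).2 this)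

include hB in
/-- Elements of `L` outside the fibre ideal are distinguished polynomials up to units. -/
theorem exists_distinguished (x : L) (hx : x ∉ (IsLocalRing.maximalIdeal R).map (algebraMap R L)) :
    ∃ (P : R[X]) (w : L), P.Monic ∧ (∀ i < P.natDegree, P.coeff i ∈ IsLocalRing.maximalIdeal R) ∧
      IsUnit w ∧ algebraMap B L (algebraMap R[X] B P) = x * w := by
  obtain ⟨k, b, hb⟩ := IsLocalization.Away.surj (algebraMap R[X] B X) x
  have hu := (IsLocalization.Away.algebraMap_isUnit (S := L) (algebraMap R[X] B X)).pow k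
  have hbM : b ∉ (IsLocalRing.maximalIdeal R).map (algebraMap R B) := fun h => hx <| by
    refine (Ideal.mul_unit_mem_iff_mem _ hu).1 ?_
    rw [hb, IsScalarTower.algebraMap_eq R B L, ← Ideal.map_map]
    exact Ideal.mem_map_of_mem _ h
  obtain ⟨P, v, hP, hc, hbP⟩ := exists_prep hB hbM
  refine ⟨P, algebraMap B L (algebraMap R[X] B X) ^ k * algebraMap B L (↑v⁻¹), hP, hc,
    hu.mul (v⁻¹.isUnit.map _), ?_⟩
  rw [← mul_assoc, hb, ← map_mul, hbP, mul_assoc, Units.mul_inv, mul_one]

theorem distinguished_mem_iff_unit {P : R[X]} (hP : P.Monic)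
    (hc : ∀ i < P.natDegree, P.coeff i ∈ IsLocalRing.maximalIdeal R) :
    IsUnit (Ideal.Quotient.mk ((IsLocalRing.maximalIdeal R).map (algebraMap R L))
      (algebraMap B L (algebraMap R[X] B P))) := by
  have h := Ideal.mem_map_of_mem ((algebraMap B L).comp (algebraMap R[X] B)) (X_pow_mem_of_distinguished hP hc)
  rw [Ideal.map_map, RingHom.comp_assoc, ← IsScalarTower.algebraMap_eq R R[X] B, ← IsScalarTower.algebraMap_eq R B L,
    map_sub, map_pow] at h
  rw [RingHom.comp_apply, RingHom.comp_apply] at h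
  rw [(Ideal.Quotient.mk_eq_mk_iff_sub_mem _ _).2 h]
  exact ((IsLocalization.Away.algebraMap_isUnit (S := L) (algebraMap R[X] B X)).pow _).map _

include hB in
theorem sup_fibre_eq_top {J : Ideal L} {x : L} (hxJ : x ∈ J)
    (hx : x ∉ (IsLocalRing.maximalIdeal R).map (algebraMap R L)) :
    J ⊔ (IsLocalRing.maximalIdeal R).map (algebraMap R L) = ⊤ := by
  obtain ⟨P, w, hP, hc, -, h⟩ := exists_distinguished hB x hx
  obtain ⟨c, hc'⟩ := (distinguished_mem_iff_unit (B := B) (L := L) hP hc).exists_right_inv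
  obtain ⟨c, rfl⟩ := Ideal.Quotient.mk_surjective c
  rw [← map_mul, ← map_one (Ideal.Quotient.mk ((IsLocalRing.maximalIdeal R).map (algebraMap R L))),
    Ideal.Quotient.mk_eq_mk_iff_sub_mem] at hc'
  rw [Ideal.eq_top_iff_one, show (1 : L) = x * (w * c) - (algebraMap B L (algebraMap R[X] B P) * c - 1) by
    rw [h]; ring]
  exact sub_mem (Submodule.mem_sup_left (Ideal.mul_mem_right _ _ hxJ)) (Submodule.mem_sup_right hc')

include hB in
theorem distinguished_regular {P : R[X]} (hP : P.Monic) (x : L)
    (hx : x * algebraMap B L (algebraMap R[X] B P) = 0) : x = 0 := by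
  obtain ⟨k, b, hb⟩ := IsLocalization.Away.surj (algebraMap R[X] B X) x
  have h1 : algebraMap B L (b * algebraMap R[X] B P) = algebraMap B L 0 := by
    rw [map_mul, ← hb, mul_right_comm, hx, zero_mul, map_zero]
  obtain ⟨n, hn⟩ := IsLocalization.Away.exists_of_eq (S := L) (algebraMap R[X] B X) h1
  have hb0 : b = 0 := isSMulRegular_of_monic hB (hP.mul (monic_X_pow n)) (b := b) (by
    rw [map_mul, map_pow, mul_zero] at *
    linear_combination hn)
  rw [hb0, map_zero] at hb
  exact ((IsLocalization.Away.algebraMap_isUnit (S := L) (algebraMap R[X] B X)).pow k).mul_left_eq_zero.1 hb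

include hB in
theorem exists_mem_distinguished {J : Ideal L} (hJ : J ⊔ (IsLocalRing.maximalIdeal R).map (algebraMap R L) = ⊤) :
    ∃ P : R[X], P.Monic ∧ (∀ i < P.natDegree, P.coeff i ∈ IsLocalRing.maximalIdeal R) ∧
      algebraMap B L (algebraMap R[X] B P) ∈ J := by
  obtain ⟨x, hx, hx'⟩ : ∃ x ∈ J, x ∉ (IsLocalRing.maximalIdeal R).map (algebraMap R L) := by
    by_contra hcon
    refine fibre_ne_top hB (L := L) (top_unique (hJ.symm.le.trans (sup_le (fun x hx => ?_) le_rfl)))
    exact not_not.1 fun hn => hcon ⟨x, hx, hn⟩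
  obtain ⟨P, w, hP, hc, -, h⟩ := exists_distinguished hB x hx'
  exact ⟨P, hP, hc, h ▸ Ideal.mul_mem_right _ _ hx⟩

theorem reflect_sup_eq_top {P : R[X]} (hP : P.Monic)
    (hc : ∀ i < P.natDegree, P.coeff i ∈ IsLocalRing.maximalIdeal R) :
    Ideal.span {P.reflect P.natDegree} ⊔ (IsLocalRing.maximalIdeal R).map (algebraMap R R[X]) = ⊤ := by
  rw [Ideal.eq_top_iff_one, show (1 : R[X]) = P.reflect P.natDegree - (P.reflect P.natDegree - 1) by ring]
  refine sub_mem (Submodule.mem_sup_left (Ideal.mem_span_singleton_self _))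
    (Submodule.mem_sup_right (Ideal.mem_map_C_iff.2 fun i => ?_))
  rw [coeff_sub, Polynomial.coeff_reflect, coeff_one]
  rcases Nat.eq_zero_or_pos i with rfl | hi
  · rw [if_pos rfl, Polynomial.revAt_le (Nat.zero_le _), Nat.sub_zero, hP.coeff_natDegree, sub_self]
    exact zero_mem _
  · rw [if_neg hi.ne', sub_zero]
    rcases le_or_gt i P.natDegree with hin | hin
    · rw [Polynomial.revAt_le hin]
      exact hc _ (by omega)
    · rw [Polynomial.revAt_eq_self_of_lt hin, coeff_eq_zero_of_natDegree_lt hin]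
      exact zero_mem _

theorem reflect_coeff_zero {P : R[X]} (hP : P.Monic) : IsUnit ((P.reflect P.natDegree).coeff 0) := by
  rw [Polynomial.coeff_reflect, Polynomial.revAt_le (Nat.zero_le _), Nat.sub_zero, hP.coeff_natDegree]
  exact isUnit_one

include hs in
theorem map_span_reflect (P : R[X]) : (Ideal.span {P.reflect P.natDegree}).map (algebraMap R[X] L) =
    Ideal.span {algebraMap B L (algebraMap R[X] B P)} := by
  rw [Ideal.map_span, Set.image_singleton, ← refl_rel hs _ P le_rfl, Ideal.span_singleton_mul_right_unit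
    ((IsLocalization.Away.algebraMap_isUnit (S := L) (algebraMap R[X] B X)).pow _)]

/-- The image of `L ⊗ M → L` induced by a linear form. -/
theorem range_liftBaseChange {M : Type u} [AddCommGroup M] [Module R[X] M] (φ : M →ₗ[R[X]] R[X]) :
    LinearMap.range ((Algebra.linearMap R[X] L ∘ₗ φ).liftBaseChange L) =
      Ideal.map (algebraMap R[X] L) (LinearMap.range φ) := by
  refine le_antisymm ?_ ?_
  · rintro _ ⟨z, rfl⟩
    induction z using TensorProduct.induction_on with
    | zero => rw [map_zero]; exact zero_mem _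
    | tmul c v =>
      rw [LinearMap.liftBaseChange_tmul, smul_eq_mul]
      exact Ideal.mul_mem_left _ _ (Ideal.mem_map_of_mem _ (LinearMap.mem_range_self φ v))
    | add a b ha hb => rw [map_add]; exact add_mem ha hb
  · refine Ideal.map_le_iff_le_comap.2 ?_
    rintro _ ⟨v, rfl⟩
    exact ⟨1 ⊗ₜ v, by simp⟩

variable (hcomap : ∀ I : Ideal R[X], I ⊔ (IsLocalRing.maximalIdeal R).map (algebraMap R R[X]) = ⊤ →
    (I.map (algebraMap R[X] L)).comap (algebraMap R[X] L) = I)

include hB hs hcomap in
theorem free_of_free_baseChange (M : Type u) [AddCommGroup M] [Module R[X] M] [Module.Invertible R[X] M]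
    (e : L ⊗[R[X]] M ≃ₗ[L] L) : Module.Free R[X] M := by
  classical
  set F := (IsLocalRing.maximalIdeal R).map (algebraMap R R[X]) with hF
  -- a linear form which is surjective on the fibre
  obtain ⟨φ, hφ⟩ : ∃ φ : M →ₗ[R[X]] R[X], (LinearMap.range φ : Ideal R[X]) ⊔ F = ⊤ := by
    letI := Ideal.Quotient.commRing F
    letI := Ideal.Quotient.field (IsLocalRing.maximalIdeal R)
    let eq := Ideal.polynomialQuotientEquivQuotientPolynomial (IsLocalRing.maximalIdeal R)
    haveI : IsPrincipalIdealRing (R[X] ⧸ F) := IsPrincipalIdealRing.of_surjective eq.toRingHom eq.surjective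
    haveI : IsDomain (R[X] ⧸ F) := MulEquiv.isDomain (R ⧸ IsLocalRing.maximalIdeal R)[X] eq.symm.toMulEquiv
    haveI : Module.Invertible (R[X] ⧸ F) ((R[X] ⧸ F) ⊗[R[X]] M) := inferInstance
    haveI : Module.Free (R[X] ⧸ F) ((R[X] ⧸ F) ⊗[R[X]] M) := Module.free_of_finite_type_torsion_free'
    obtain ⟨ε⟩ := Module.Invertible.free_iff_linearEquiv.1
      (inferInstance : Module.Free (R[X] ⧸ F) ((R[X] ⧸ F) ⊗[R[X]] M))
    let π : M →ₗ[R[X]] R[X] ⧸ F := (ε.toLinearMap.restrictScalars R[X]) ∘ₗ TensorProduct.mk R[X] (R[X] ⧸ F) M 1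
    have hπ : Function.Surjective π := by
      refine ε.surjective.comp ?_
      exact TensorProduct.mk_surjective R[X] M (R[X] ⧸ F) Ideal.Quotient.mk_surjective
    obtain ⟨φ, hφ⟩ := Module.projective_lifting_property (Submodule.mkQ F) π (Submodule.mkQ_surjective _)
    refine ⟨φ, ?_⟩
    obtain ⟨m, hm⟩ := hπ 1
    rw [Ideal.eq_top_iff_one, show (1 : R[X]) = φ m - (φ m - 1) by ring]
    refine sub_mem (Submodule.mem_sup_left (LinearMap.mem_range_self φ m)) (Submodule.mem_sup_right ?_)
    rw [← Ideal.Quotient.mk_eq_mk_iff_sub_mem, map_one]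
    exact (LinearMap.congr_fun hφ m).trans hm
  set K : Ideal R[X] := LinearMap.range φ with hK
  obtain ⟨h, hh, z, hz, hhz⟩ := Submodule.mem_sup.1 (hφ ▸ Submodule.mem_top : (1 : R[X]) ∈ K ⊔ F)
  obtain ⟨x₀, hx₀⟩ := hh
  have hinj : Function.Injective φ := injective_of_regular φ x₀ hx₀
    (eq_zero_of_mul_eq_zero_of_coeff (isUnit_coeff_zero_of_mem hz hhz))
  -- the ideal in `L`
  let φL : L ⊗[R[X]] M →ₗ[L] L := (Algebra.linearMap R[X] L ∘ₗ φ).liftBaseChange L
  set J := Ideal.map (algebraMap R[X] L) K with hJ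
  have hrange : LinearMap.range φL = J := range_liftBaseChange φ
  have hJtop : J ⊔ (IsLocalRing.maximalIdeal R).map (algebraMap R L) = ⊤ := by
    rw [hJ, IsScalarTower.algebraMap_eq R R[X] L, ← Ideal.map_map, ← Ideal.map_sup, hφ, Ideal.map_top]
  set j := φL (e.symm 1) with hj
  have hJspan : J = Ideal.span {j} := by
    rw [← hrange]
    refine le_antisymm ?_ ((Ideal.span_singleton_le_iff_mem _).2 (LinearMap.mem_range_self φL _))
    rintro _ ⟨y, rfl⟩
    refine Ideal.mem_span_singleton'.2 ⟨e y, ?_⟩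
    rw [hj, ← smul_eq_mul, ← map_smul, ← map_smul, smul_eq_mul, mul_one, LinearEquiv.symm_apply_apply]
  have hjn : j ∉ (IsLocalRing.maximalIdeal R).map (algebraMap R L) := fun hjm => by
    rw [hJspan, sup_eq_right.2 ((Ideal.span_singleton_le_iff_mem _).2 hjm)] at hJtop
    exact fibre_ne_top hB hJtop
  obtain ⟨P, w, hP, hc, hw, hPj⟩ := exists_distinguished hB j hjn
  have hKspan : K = Ideal.span {P.reflect P.natDegree} := by
    rw [← hcomap K hφ, ← hcomap _ (reflect_sup_eq_top hP hc), map_span_reflect hs, hPj,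
      Ideal.span_singleton_mul_right_unit hw, ← hJspan]
  let μ : R[X] →ₗ[R[X]] R[X] := LinearMap.mulRight R[X] (P.reflect P.natDegree)
  have hμ : Function.Injective μ := (injective_iff_map_eq_zero _).2
    (fun a ha => eq_zero_of_mul_eq_zero_of_coeff (reflect_coeff_zero hP) a ha)
  refine Module.Free.of_equiv ((LinearEquiv.ofInjective μ hμ).trans
    ((LinearEquiv.ofEq _ _ ?_).trans (LinearEquiv.ofInjective φ hinj).symm))
  show LinearMap.range μ = K
  rw [hKspan]
  ext a
  rw [LinearMap.mem_range, Ideal.mem_span_singleton']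
  rfl

include hB hs hcomap in
theorem exists_invertible (hmap : ∀ J : Ideal L, J ⊔ (IsLocalRing.maximalIdeal R).map (algebraMap R L) = ⊤ →
      (J.comap (algebraMap R[X] L)).map (algebraMap R[X] L) = J ∧
        J.comap (algebraMap R[X] L) ⊔ (IsLocalRing.maximalIdeal R).map (algebraMap R R[X]) = ⊤)
    (M₀ : Type u) [AddCommGroup M₀] [Module L M₀] [Module.Invertible L M₀] :
    ∃ (M : Type u) (_ : AddCommGroup M) (_ : Module R[X] M), Module.Invertible R[X] M ∧
      Nonempty (L ⊗[R[X]] M ≃ₗ[L] M₀) := by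
  classical
  set mL := (IsLocalRing.maximalIdeal R).map (algebraMap R L) with hmL
  set F := (IsLocalRing.maximalIdeal R).map (algebraMap R R[X]) with hF
  obtain ⟨φ, x₁, hx₁⟩ : ∃ (φ : M₀ →ₗ[L] L) (x : M₀), φ x ∉ mL := by
    by_contra hcon
    obtain ⟨z, hz⟩ := (Module.Invertible.bijective (R := L) (M := M₀)).2 1
    have h1 : ∀ w, contractLeft L M₀ w ∈ mL := fun w => by
      induction w using TensorProduct.induction_on with
      | zero => rw [map_zero]; exact zero_mem _
      | tmul θ v => exact not_not.1 fun hn => hcon ⟨θ, v, hn⟩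
      | add a b ha hb => rw [map_add]; exact add_mem ha hb
    exact fibre_ne_top hB ((Ideal.eq_top_iff_one _).2 (hz ▸ h1 z))
  set J : Ideal L := LinearMap.range φ with hJ
  have hJtop : J ⊔ mL = ⊤ := sup_fibre_eq_top hB (LinearMap.mem_range_self φ x₁) hx₁
  obtain ⟨P, hP, hc, hPJ⟩ := exists_mem_distinguished hB hJtop
  obtain ⟨x₀, hx₀⟩ := hPJ
  set p := algebraMap B L (algebraMap R[X] B P) with hp
  have hinj : Function.Injective φ := injective_of_regular φ x₀ hx₀ (distinguished_regular hB hP)
  let J' : Ideal L := LinearMap.range (Module.Dual.eval L M₀ x₀)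
  have hJJ' : J * J' = Ideal.span {p} := by
    refine le_antisymm (Ideal.mul_le.2 ?_) ((Ideal.span_singleton_le_iff_mem _).2 ?_)
    · rintro _ ⟨x, rfl⟩ _ ⟨θ, rfl⟩
      refine Ideal.mem_span_singleton'.2 ⟨θ x, ?_⟩
      have := congrArg θ (smul_comm_of_invertible φ x x₀)
      rw [map_smul, map_smul, hx₀, smul_eq_mul, smul_eq_mul] at this
      show θ x * p = φ x * θ x₀
      linear_combination -this
    · obtain ⟨z, hz⟩ := (Module.Invertible.bijective (R := L) (M := M₀)).2 1
      have h1 : ∀ w, p * contractLeft L M₀ w ∈ J * J' := fun w => by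
        induction w using TensorProduct.induction_on with
        | zero => rw [map_zero, mul_zero]; exact zero_mem _
        | tmul θ v =>
          have := congrArg θ (smul_comm_of_invertible φ v x₀)
          rw [map_smul, map_smul, hx₀, smul_eq_mul, smul_eq_mul] at this
          rw [contractLeft_apply, ← this]
          exact Ideal.mul_mem_mul (LinearMap.mem_range_self φ v) (LinearMap.mem_range_self _ θ)
        | add a b ha hb => rw [map_add, mul_add]; exact add_mem ha hb
      simpa [hz] using h1 z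
  have hpn : p ∉ mL := fun h => by
    have := distinguished_mem_iff_unit (B := B) (L := L) hP hc
    rw [Ideal.Quotient.eq_zero_iff_mem.2 h, isUnit_zero_iff] at this
    exact fibre_ne_top hB (L := L) (by rwa [← Ideal.Quotient.subsingleton_iff, subsingleton_iff_zero_eq_one.symm])
  have hpJ' : p ∈ J' := Ideal.mul_le_right (hJJ' ▸ Ideal.mem_span_singleton_self p)
  have hJ'top : J' ⊔ mL = ⊤ := sup_fibre_eq_top hB hpJ' hpn
  obtain ⟨hKmap, hKtop⟩ := hmap J hJtop
  obtain ⟨hK'map, hK'top⟩ := hmap J' hJ'top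
  set K := J.comap (algebraMap R[X] L)
  set K' := J'.comap (algebraMap R[X] L)
  have hKK' : K * K' = Ideal.span {P.reflect P.natDegree} := by
    have hprod : K * K' ⊔ F = ⊤ := (Ideal.mul_sup_eq_of_coprime_left hKtop).trans hK'top
    rw [← hcomap _ hprod, ← hcomap _ (reflect_sup_eq_top hP hc), Ideal.map_mul, hKmap, hK'map, hJJ',
      map_span_reflect hs]
  -- `K` is invertible
  set h := P.reflect P.natDegree with hh
  have hreg : ∀ a : R[X], a * h = 0 → a = 0 := eq_zero_of_mul_eq_zero_of_coeff (reflect_coeff_zero hP)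
  have hle : Submonoid.powers h ≤ nonZeroDivisors R[X] :=
    Submonoid.powers_le.2 (mem_nonZeroDivisors_iff_right.2 hreg)
  let Q := Localization.Away h
  have hQinj : Function.Injective (algebraMap R[X] Q) := IsLocalization.injective Q hle
  haveI : FaithfulSMul R[X] Q := (faithfulSMul_iff_algebraMap_injective R[X] Q).2 hQinj
  have hu : IsUnit (IsLocalization.coeSubmodule Q K) := by
    obtain ⟨u, hu⟩ := IsLocalization.Away.algebraMap_isUnit (S := Q) h
    refine IsUnit.of_mul_eq_one (IsLocalization.coeSubmodule Q K' * Submodule.span R[X] {(↑u⁻¹ : Q)}) ?_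
    rw [← mul_assoc, ← IsLocalization.coeSubmodule_mul, hKK', IsLocalization.coeSubmodule_span_singleton,
      Submodule.span_mul_span, Set.singleton_mul_singleton, ← hu, Units.mul_inv, ← Submodule.one_eq_span]
  haveI : Module.Invertible R[X] (IsLocalization.coeSubmodule Q K) :=
    (inferInstance : Module.Invertible R[X] hu.unit.1)
  haveI : Module.Invertible R[X] (Submodule.map (Algebra.linearMap R[X] Q) K) := this
  haveI : Module.Invertible R[X] K :=
    Module.Invertible.congr (Submodule.equivMapOfInjective (Algebra.linearMap R[X] Q) hQinj K).symm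
  refine ⟨K, inferInstance, inferInstance, inferInstance, ?_⟩
  let ι : L ⊗[R[X]] K →ₗ[L] L := (Algebra.linearMap R[X] L ∘ₗ Submodule.subtype K).liftBaseChange L
  have hι : LinearMap.range ι = J := by
    show LinearMap.range ((Algebra.linearMap R[X] L ∘ₗ Submodule.subtype K).liftBaseChange L) = J
    rw [range_liftBaseChange]
    show Ideal.map (algebraMap R[X] L) (LinearMap.range (Submodule.subtype K)) = J
    rw [Submodule.range_subtype, hKmap]
  let eφ := LinearEquiv.ofInjective φ hinj
  let g : L ⊗[R[X]] K →ₗ[L] M₀ := eφ.symm.toLinearMap ∘ₗ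
    ι.codRestrict (LinearMap.range φ) (fun z => hι.le (LinearMap.mem_range_self ι z))
  refine ⟨LinearEquiv.ofBijective g (Module.Invertible.bijective_of_surjective fun y => ?_)⟩
  obtain ⟨z, hz⟩ := hι.ge (LinearMap.mem_range_self φ y)
  refine ⟨z, eφ.injective ?_⟩
  simp only [g, LinearMap.comp_apply, LinearEquiv.coe_coe, LinearEquiv.apply_symm_apply]
  exact Subtype.ext hz

end GrothLib.HensPrep1
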