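import Groth.Agent.Lib.Hensel.Henselization
import Groth.Agent.Lib.Hensel.PairFP
import Groth.Agent.Lib.Hensel.Noetherian
import Groth.Agent.Lib.Hensel.FiniteNhd
import Groth.Prelude.Def_Hens2
import Mathlib

/-!
# The henselization of `R[t]` along `(t)` over a henselian local ring `R`
-/

universe u

open Polynomial

namespace GrothLib.HensPrep1

open GrothLib.Hensel

variable {R : Type u} [CommRing R] {B : Type u} [CommRing B] [Algebra R B] [Algebra R[X] B]
  [IsScalarTower R R[X] B] (hB : Hens2.IsPairHenselization R[X] (Ideal.span {(X : R[X])}) B)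


include hB in
theorem henselian_span : HenselianRing B (Ideal.span {algebraMap R[X] B X}) := by
  simpa [Ideal.map_span] using hB.1

include hB in
theorem exists_sub_algebraMap (m : ℕ) (b : B) :
    ∃ p : R[X], algebraMap R[X] B X ^ m ∣ b - algebraMap R[X] B p := by
  obtain ⟨p, hp⟩ := exists_sub_mem_map_pow (Ideal.span {(X : R[X])}) (IsPairHenselization.exists_sub_mem hB) m b
  rw [Ideal.span_singleton_pow, Ideal.map_span, Set.image_singleton, map_pow, Ideal.mem_span_singleton] at hp
  exact ⟨p, hp⟩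

include hB in
theorem isUnit_of_constant [IsLocalRing R] {b : B} {p : R[X]}
    (hb : algebraMap R[X] B X ∣ b - algebraMap R[X] B p) (hp : IsUnit (p.coeff 0)) : IsUnit b := by
  haveI := henselian_span hB
  have h1 : b - algebraMap R B (p.coeff 0) ∈ Ideal.span {algebraMap R[X] B X} := by
    rw [Ideal.mem_span_singleton]
    have h2 : algebraMap R[X] B X ∣ algebraMap R[X] B (p - C (p.coeff 0)) := map_dvd _ (X_dvd_sub_C)
    rw [map_sub, ← Polynomial.algebraMap_eq, ← IsScalarTower.algebraMap_apply] at h2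
    simpa using dvd_add hb h2
  refine isUnit_of_isUnit_mk (HenselianRing.jac (I := Ideal.span {algebraMap R[X] B X})) (a := b) ?_
  rw [(Ideal.Quotient.mk_eq_mk_iff_sub_mem _ _).2 h1]
  exact (hp.map _).map _

include hB in
theorem isLocalRing [IsLocalRing R] : IsLocalRing B := by
  have : Nontrivial B := by
    refine ⟨0, 1, fun h => ?_⟩
    have h1 : algebraMap R[X] B 1 ∈ (Ideal.span {(X : R[X])}).map (algebraMap R[X] B) := by
      rw [map_one, ← h]; exact zero_mem _
    have h2 := (IsPairHenselization.quotientMap_bijective hB).1 (a₁ := Ideal.Quotient.mk _ 1) (a₂ := 0)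
      (by rw [map_zero, Ideal.quotientMap_mk, Ideal.Quotient.eq_zero_iff_mem]; exact h1)
    rw [Ideal.Quotient.eq_zero_iff_mem, Ideal.mem_span_singleton] at h2
    exact Polynomial.not_isUnit_X (isUnit_of_dvd_one h2)
  refine IsLocalRing.of_isUnit_or_isUnit_one_sub_self fun b => ?_
  obtain ⟨p, hp⟩ := exists_sub_algebraMap hB 1 b
  rw [pow_one] at hp
  rcases IsLocalRing.isUnit_or_isUnit_one_sub_self (p.coeff 0) with h | h
  · exact Or.inl (isUnit_of_constant hB hp h)
  · refine Or.inr (isUnit_of_constant hB (p := 1 - p) ?_ (by simpa using h))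
    rw [map_sub, map_one, show (1 : B) - b - (1 - algebraMap R[X] B p) = -(b - algebraMap R[X] B p) by ring]
    exact hp.neg_right

include hB in
theorem mem_of_algebraMap_mem [IsLocalRing R] {p : R[X]} {n : ℕ}
    (h : algebraMap R[X] B p ∈ ((IsLocalRing.maximalIdeal R).map (algebraMap R B)) ⊔ Ideal.span {(algebraMap R[X] B X) ^ n}) :
    p ∈ (IsLocalRing.maximalIdeal R).map (algebraMap R R[X]) ⊔ Ideal.span {(X : R[X]) ^ n} := by
  set K := (IsLocalRing.maximalIdeal R).map (algebraMap R R[X]) ⊔ Ideal.span {(X : R[X]) ^ n} with hK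
  letI := Ideal.Quotient.commRing K
  have hJ : HenselianRing (R[X] ⧸ K) (Ideal.span {Ideal.Quotient.mk K X}) := by
    refine henselianRing_of_isNilpotent _ fun x hx => ?_
    obtain ⟨y, rfl⟩ := Ideal.mem_span_singleton'.1 hx
    refine (Commute.all _ _).isNilpotent_mul_left ⟨n, ?_⟩
    rw [← map_pow, Ideal.Quotient.eq_zero_iff_mem]
    exact Submodule.mem_sup_right (Ideal.mem_span_singleton_self _)
  obtain ⟨g, hg, -⟩ := hB.2 (R[X] ⧸ K) _ (Ideal.Quotient.mk K) hJ (by
    rw [Ideal.map_span, Set.image_singleton])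
  have hga : ∀ q, g (algebraMap R[X] B q) = Ideal.Quotient.mk K q := fun q => RingHom.congr_fun hg q
  have hker : ((IsLocalRing.maximalIdeal R).map (algebraMap R B)) ⊔ Ideal.span {(algebraMap R[X] B X) ^ n} ≤ RingHom.ker g := by
    refine sup_le (Ideal.map_le_iff_le_comap.2 fun a ha => ?_) ((Ideal.span_singleton_le_iff_mem _).2 ?_)
    · rw [Ideal.mem_comap, RingHom.mem_ker, IsScalarTower.algebraMap_apply R R[X] B, hga,
        Ideal.Quotient.eq_zero_iff_mem]
      exact Submodule.mem_sup_left (Ideal.mem_map_of_mem _ ha)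
    · rw [RingHom.mem_ker, map_pow, hga, ← map_pow, Ideal.Quotient.eq_zero_iff_mem]
      exact Submodule.mem_sup_right (Ideal.mem_span_singleton_self _)
  have := hker h
  rwa [RingHom.mem_ker, hga, Ideal.Quotient.eq_zero_iff_mem] at this

theorem mem_sup_X_pow_iff [IsLocalRing R] {p : R[X]} {n : ℕ} :
    p ∈ (IsLocalRing.maximalIdeal R).map (algebraMap R R[X]) ⊔ Ideal.span {(X : R[X]) ^ n} ↔
      ∀ i < n, p.coeff i ∈ IsLocalRing.maximalIdeal R := by
  constructor
  · intro h i hi
    obtain ⟨a, ha, b, hb, rfl⟩ := Submodule.mem_sup.1 h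
    rw [coeff_add, Polynomial.X_pow_dvd_iff.1 (Ideal.mem_span_singleton.1 hb) i hi, add_zero]
    exact Ideal.mem_map_C_iff.1 ha i
  · intro h
    rw [← add_sub_cancel (∑ i ∈ Finset.range n, C (p.coeff i) * X ^ i) p]
    refine add_mem (Submodule.mem_sup_left (sum_mem fun i hi => Ideal.mul_mem_right _ _
      (Ideal.mem_map_of_mem _ (h i (Finset.mem_range.1 hi))))) (Submodule.mem_sup_right ?_)
    rw [Ideal.mem_span_singleton, Polynomial.X_pow_dvd_iff]
    intro i hi
    rw [coeff_sub, finsetSum_coeff]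
    simp [coeff_C_mul, coeff_X_pow, Finset.sum_ite_eq, hi]

include hB in
/-- The order of vanishing on the special fibre. -/
theorem exists_fibre_order [IsLocalRing R] {f : B} (hf : f ∉ ((IsLocalRing.maximalIdeal R).map (algebraMap R B))) :
    ∃ (d : ℕ) (u : B), IsUnit u ∧ f - (algebraMap R[X] B X) ^ d * u ∈ ((IsLocalRing.maximalIdeal R).map (algebraMap R B)) := by
  haveI := isLocalRing hB
  letI := Ideal.Quotient.commRing ((IsLocalRing.maximalIdeal R).map (algebraMap R B))
  set M := (IsLocalRing.maximalIdeal R).map (algebraMap R R[X]) with hM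
  have hmB : M.map (algebraMap R[X] B) = ((IsLocalRing.maximalIdeal R).map (algebraMap R B)) := by rw [hM, Ideal.map_map, ← IsScalarTower.algebraMap_eq]
  haveI : IsNoetherianRing (B ⧸ ((IsLocalRing.maximalIdeal R).map (algebraMap R B))) := by
    letI := Ideal.Quotient.commRing M
    let F : R[X] ⧸ M →+* B ⧸ ((IsLocalRing.maximalIdeal R).map (algebraMap R B)) := Ideal.quotientMap _ (algebraMap R[X] B)
      (hmB ▸ Ideal.le_comap_map)
    letI : Algebra (R[X] ⧸ M) (B ⧸ ((IsLocalRing.maximalIdeal R).map (algebraMap R B))) := F.toAlgebra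
    haveI : IsScalarTower R[X] (R[X] ⧸ M) (B ⧸ ((IsLocalRing.maximalIdeal R).map (algebraMap R B))) := IsScalarTower.of_algebraMap_eq fun _ => rfl
    letI := Ideal.Quotient.field (IsLocalRing.maximalIdeal R)
    haveI : IsNoetherianRing (R[X] ⧸ M) :=
      isNoetherianRing_of_ringEquiv _ (Ideal.polynomialQuotientEquivQuotientPolynomial (IsLocalRing.maximalIdeal R))
    exact IsPairHenselization.isNoetherianRing (isPairHenselization_of_surjective hB (R' := R[X] ⧸ M)
      Ideal.Quotient.mk_surjective (Ideal.Quotient.mkₐ R[X] ((IsLocalRing.maximalIdeal R).map (algebraMap R B))) (Ideal.Quotient.mkₐ_surjective _ _)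
      (by rw [AlgHom.ker_coe, Ideal.Quotient.mkₐ_ker, Ideal.Quotient.algebraMap_eq, Ideal.mk_ker, hmB]))
  set x := Ideal.Quotient.mk ((IsLocalRing.maximalIdeal R).map (algebraMap R B)) f with hx
  have hx0 : x ≠ 0 := fun h => hf (Ideal.Quotient.eq_zero_iff_mem.1 h)
  have hne : (((IsLocalRing.maximalIdeal R).map (algebraMap R B)) : Ideal B) ≠ ⊤ := fun h => hf (h ▸ Submodule.mem_top)
  haveI : Nontrivial (B ⧸ ((IsLocalRing.maximalIdeal R).map (algebraMap R B))) := Ideal.Quotient.nontrivial_iff.2 hne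
  haveI := IsLocalRing.of_surjective' (Ideal.Quotient.mk ((IsLocalRing.maximalIdeal R).map (algebraMap R B))) Ideal.Quotient.mk_surjective
  set s := Ideal.Quotient.mk ((IsLocalRing.maximalIdeal R).map (algebraMap R B)) (algebraMap R[X] B X)
  have hs : ¬ IsUnit s := fun hu => by
    haveI := henselian_span hB
    have hτ : (algebraMap R[X] B X) ∈ IsLocalRing.maximalIdeal B := (IsLocalRing.jacobson_eq_maximalIdeal ⊥ bot_ne_top).le
      (HenselianRing.jac (I := Ideal.span {(algebraMap R[X] B X)}) (Ideal.mem_span_singleton_self _))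
    exact (IsLocalRing.mem_maximalIdeal _).1 hτ (isUnit_of_isUnit_mk
      ((IsLocalRing.le_maximalIdeal hne).trans (IsLocalRing.maximalIdeal_le_jacobson _)) hu)
  have hfin : ∃ d, ¬ s ^ d ∣ x := by
    by_contra hcon
    have : x ∈ ⨅ i : ℕ, Ideal.span {s} ^ i := Ideal.mem_iInf.2 fun i => by
      rw [Ideal.span_singleton_pow, Ideal.mem_span_singleton]
      exact not_not.1 fun h => hcon ⟨i, h⟩
    rw [Ideal.iInf_pow_eq_bot_of_isLocalRing _ (by rwa [ne_eq, Ideal.span_singleton_eq_top])] at this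
    exact hx0 this
  classical
  obtain ⟨d, hd⟩ : ∃ d, Nat.find hfin = d + 1 := Nat.exists_eq_succ_of_ne_zero fun h => by
    have := Nat.find_spec hfin
    rw [h, pow_zero] at this
    exact this (one_dvd _)
  obtain ⟨w, hw⟩ := not_not.1 (Nat.find_min hfin (show d < Nat.find hfin by omega))
  obtain ⟨u, rfl⟩ := Ideal.Quotient.mk_surjective w
  refine ⟨d, u, ?_, by rw [← Ideal.Quotient.eq_zero_iff_mem, map_sub, map_mul, map_pow, ← hx, hw, sub_self]⟩
  obtain ⟨p, hp⟩ := exists_sub_algebraMap hB 1 u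
  rw [pow_one] at hp
  by_contra hu
  have h0 : p.coeff 0 ∈ IsLocalRing.maximalIdeal R := fun h => hu (isUnit_of_constant hB hp h)
  refine (hd ▸ Nat.find_spec hfin) ?_
  rw [hw, pow_succ]
  refine mul_dvd_mul_left _ ?_
  obtain ⟨c, hc⟩ := hp
  obtain ⟨q, hq⟩ := X_dvd_sub_C (p := p)
  refine ⟨Ideal.Quotient.mk ((IsLocalRing.maximalIdeal R).map (algebraMap R B)) (c + algebraMap R[X] B q), ?_⟩
  rw [← map_mul, Ideal.Quotient.mk_eq_mk_iff_sub_mem,
    show u - (algebraMap R[X] B X) * (c + algebraMap R[X] B q) = algebraMap R B (p.coeff 0) by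
      have := congrArg (algebraMap R[X] B) hq
      rw [map_sub, map_mul, ← Polynomial.algebraMap_eq, ← IsScalarTower.algebraMap_apply] at this
      linear_combination hc + this]
  exact Ideal.mem_map_of_mem _ h0

end GrothLib.HensPrep1
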