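import Groth.Agent.Lib.HensPrep1.Basic
import Groth.Agent.Lib.Hensel.Local
import Mathlib

/-!
# Weierstrass preparation in the henselization of `R[t]` along `(t)`
-/

universe u

open Polynomial

namespace GrothLib.HensPrep1

open GrothLib.Hensel

variable {R : Type u} [CommRing R] [HenselianLocalRing R] {B : Type u} [CommRing B] [Algebra R B] [Algebra R[X] B]
  [IsScalarTower R R[X] B] (hB : Hens2.IsPairHenselization R[X] (Ideal.span {(X : R[X])}) B)

theorem henselian_of_pow_mem {Q : Type u} [CommRing Q] [Algebra R Q] [Module.Finite R Q] {x : Q} {n : ℕ}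
    (hx : x ^ n ∈ (IsLocalRing.maximalIdeal R).map (algebraMap R Q)) : HenselianRing Q (Ideal.span {x}) := by
  haveI : HenselianRing R (IsLocalRing.maximalIdeal R) := inferInstance
  haveI := henselianRing_of_isIntegral (IsLocalRing.maximalIdeal R) Q
  haveI : HenselianRing Q ((IsLocalRing.maximalIdeal R).map (algebraMap R Q)).radical :=
    (henselianRing_iff_of_radical_eq (Ideal.radical_idem _).symm).1 inferInstance
  exact henselianRing_of_le ((Ideal.span_singleton_le_iff_mem _).2 (Ideal.mem_radical_iff.2 ⟨n, hx⟩))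

theorem X_pow_mem_of_distinguished {P : R[X]} (hP : P.Monic)
    (hc : ∀ i < P.natDegree, P.coeff i ∈ IsLocalRing.maximalIdeal R) :
    P - X ^ P.natDegree ∈ (IsLocalRing.maximalIdeal R).map (algebraMap R R[X]) := by
  refine Ideal.mem_map_C_iff.2 fun i => ?_
  rw [coeff_sub, coeff_X_pow]
  rcases lt_trichotomy i P.natDegree with h | h | h
  · rw [if_neg h.ne, sub_zero]; exact hc i h
  · rw [if_pos h, h, hP.coeff_natDegree, sub_self]; exact zero_mem _
  · rw [if_neg h.ne', coeff_eq_zero_of_natDegree_lt h, sub_zero]; exact zero_mem _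

include hB in
/-- `R[t]/(P) = B/PB` for a distinguished polynomial `P`. -/
theorem quot_distinguished {P : R[X]} (hP : P.Monic)
    (hc : ∀ i < P.natDegree, P.coeff i ∈ IsLocalRing.maximalIdeal R) :
    (∀ b : B, ∃ q : R[X], algebraMap R[X] B q - b ∈ Ideal.span {algebraMap R[X] B P}) ∧
      (∀ q : R[X], algebraMap R[X] B q ∈ Ideal.span {algebraMap R[X] B P} → q ∈ Ideal.span {P}) := by
  letI := Ideal.Quotient.commRing (Ideal.span {P})
  haveI : Module.Finite R (R[X] ⧸ Ideal.span {P}) := hP.finite_adjoinRoot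
  haveI hx : HenselianRing (R[X] ⧸ Ideal.span {P}) (Ideal.span {Ideal.Quotient.mk (Ideal.span {P}) X}) := by
    refine henselian_of_pow_mem (R := R) (n := P.natDegree) ?_
    have h := Ideal.mem_map_of_mem (Ideal.Quotient.mk (Ideal.span {P})) (X_pow_mem_of_distinguished hP hc)
    rw [map_sub, Ideal.Quotient.eq_zero_iff_mem.2 (Ideal.mem_span_singleton_self P), zero_sub,
      Ideal.map_map] at h
    rw [← map_pow]
    exact (Submodule.neg_mem_iff _).1 h
  obtain ⟨g, hg, -⟩ := hB.2 _ _ (Ideal.Quotient.mk (Ideal.span {P})) hx (by rw [Ideal.map_span, Set.image_singleton])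
  have hga : ∀ q, g (algebraMap R[X] B q) = Ideal.Quotient.mk _ q := fun q => RingHom.congr_fun hg q
  refine ⟨fun b => ?_, fun q hq => ?_⟩
  · haveI := hB.1
    haveI hJ := henselianRing_quotient (Ideal.span {algebraMap R[X] B P}) ((Ideal.span {(X : R[X])}).map (algebraMap R[X] B))
    let h : R[X] ⧸ Ideal.span {P} →+* B ⧸ Ideal.span {algebraMap R[X] B P} :=
      Ideal.quotientMap _ (algebraMap R[X] B) (by
        rw [Ideal.span_singleton_le_iff_mem]; exact Ideal.mem_span_singleton_self _)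
    have hcomp : h.comp g = Ideal.Quotient.mk _ := by
      refine IsPairHenselization.ringHom_ext hB _ (hJ := hJ) (RingHom.ext fun q => ?_) ?_
      · show h (g (algebraMap R[X] B q)) = _
        rw [hga]; rfl
      · rw [RingHom.comp_assoc, hg, Ideal.map_map]
        exact le_of_eq (congrArg (fun φ => Ideal.map φ _) (RingHom.ext fun q => rfl))
    obtain ⟨q, hq⟩ := Ideal.Quotient.mk_surjective (g b)
    refine ⟨q, ?_⟩
    rw [← Ideal.Quotient.eq_zero_iff_mem, map_sub, sub_eq_zero, ← RingHom.congr_fun hcomp b, RingHom.comp_apply, ← hq]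
    rfl
  · obtain ⟨b, hb⟩ := Ideal.mem_span_singleton'.1 hq
    rw [← Ideal.Quotient.eq_zero_iff_mem, ← hga, ← hb, map_mul, hga,
      Ideal.Quotient.eq_zero_iff_mem.2 (Ideal.mem_span_singleton_self P), mul_zero]

include hB in
theorem not_mem_fibre_sup_span {u : B} (hu : IsUnit u) :
    u ∉ (IsLocalRing.maximalIdeal R).map (algebraMap R B) ⊔ Ideal.span {algebraMap R[X] B X} := by
  intro h
  have h1 : (1 : R[X]) ∈ (IsLocalRing.maximalIdeal R).map (algebraMap R R[X]) ⊔ Ideal.span {(X : R[X]) ^ 1} := by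
    refine mem_of_algebraMap_mem hB ?_
    rw [map_one, pow_one, Ideal.eq_top_of_isUnit_mem _ h hu]
    exact Submodule.mem_top
  have := mem_sup_X_pow_iff.1 h1 0 zero_lt_one
  rw [coeff_one_zero] at this
  exact (IsLocalRing.maximalIdeal.isMaximal R).ne_top ((Ideal.eq_top_iff_one _).2 this)

include hB in
/-- `B/fB` is finite over `R`. -/
theorem finite_quotient {f : B} {d : ℕ} {u : B} (hu : IsUnit u)
    (hfu : f - algebraMap R[X] B X ^ d * u ∈ (IsLocalRing.maximalIdeal R).map (algebraMap R B)) :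
    Module.Finite R (B ⧸ Ideal.span {f}) := by
  classical
  haveI : HenselianRing R (IsLocalRing.maximalIdeal R) := inferInstance
  haveI := isLocalRing hB
  haveI hHB := hB.1
  have hfu' := hfu
  rw [Ideal.map, Ideal.span, Submodule.mem_span_set'] at hfu'
  obtain ⟨k, c, y, hy⟩ := hfu'
  choose a ha hay using fun i => (y i).2
  obtain ⟨N, _, _, _, _, _, hbij, hNB, hs⟩ :=
    IsPairHenselization.exists_stage hB (insert u (Finset.univ.image c))
  obtain ⟨u', hu'⟩ := hs u (Finset.mem_insert_self _ _)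
  choose c' hc' using fun i => hs (c i) (Finset.mem_insert_of_mem (Finset.mem_image_of_mem c (Finset.mem_univ i)))
  letI : Algebra R N := ((algebraMap R[X] N).comp (algebraMap R R[X])).toAlgebra
  haveI : IsScalarTower R R[X] N := IsScalarTower.of_algebraMap_eq fun _ => rfl
  haveI : IsScalarTower R N B := IsScalarTower.of_algebraMap_eq fun r => by
    rw [IsScalarTower.algebraMap_apply R R[X] B, IsScalarTower.algebraMap_apply R[X] N B]; rfl
  haveI : Algebra.FiniteType R N := Algebra.FiniteType.trans (S := R[X]) inferInstance inferInstance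
  set tN := algebraMap R[X] N X with htN
  obtain ⟨g', hg'⟩ : ∃ g' : N, g' = tN ^ d * u' + ∑ i, algebraMap R N (a i) * c' i := ⟨_, rfl⟩
  have hg'B : algebraMap N B g' = f := by
    simp only [hg', map_add, map_mul, map_pow, map_sum, htN, hu', hc', ← IsScalarTower.algebraMap_apply]
    rw [← eq_sub_iff_add_eq', ← hy]
    exact Finset.sum_congr rfl fun i _ => by rw [← hay i, smul_eq_mul, mul_comm]
  -- the finite type algebra
  obtain ⟨CA, _, _, _, _, _⟩ : ∃ (CA : Type u) (_ : CommRing CA) (_ : Algebra (N ⧸ Ideal.span {g'}) CA) (_ : Algebra R CA)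
      (_ : IsScalarTower R (N ⧸ Ideal.span {g'}) CA), IsLocalization.Away (Ideal.Quotient.mk (Ideal.span {g'}) u') CA :=
    ⟨Localization.Away (Ideal.Quotient.mk (Ideal.span {g'}) u'), inferInstance, inferInstance, inferInstance,
      inferInstance, inferInstance⟩
  let ι : N →ₐ[R] CA := (IsScalarTower.toAlgHom R (N ⧸ Ideal.span {g'}) CA).comp (Ideal.Quotient.mkₐ R _)
  have hιu : IsUnit (ι u') := by
    show IsUnit (algebraMap (N ⧸ Ideal.span {g'}) CA (Ideal.Quotient.mk _ u'))
    exact IsLocalization.Away.algebraMap_isUnit _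
  haveI : Algebra.FiniteType R (N ⧸ Ideal.span {g'}) :=
    Algebra.FiniteType.of_surjective (Ideal.Quotient.mkₐ R (Ideal.span {g'})) (Ideal.Quotient.mkₐ_surjective R _)
  haveI : Algebra.FiniteType R CA :=
    Algebra.FiniteType.trans (S := N ⧸ Ideal.span {g'}) inferInstance
      (IsLocalization.finiteType_of_monoid_fg (Submonoid.powers (Ideal.Quotient.mk (Ideal.span {g'}) u')) CA)
  set mC := (IsLocalRing.maximalIdeal R).map (algebraMap R CA) with hmC
  have hta : ι tN ^ d ∈ mC := by
    have h0 : ι g' = 0 := by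
      show algebraMap (N ⧸ Ideal.span {g'}) CA (Ideal.Quotient.mk _ g') = 0
      rw [Ideal.Quotient.eq_zero_iff_mem.2 (Ideal.mem_span_singleton_self g'), map_zero]
    have h1 : ι (∑ i, algebraMap R N (a i) * c' i) ∈ mC := by
      simp only [map_sum, map_mul, AlgHom.commutes]
      exact sum_mem fun i _ => Ideal.mul_mem_right _ _ (Ideal.mem_map_of_mem _ (ha i))
    rw [congrArg ι hg', map_add, map_mul, map_pow, add_eq_zero_iff_eq_neg] at h0
    refine (Ideal.mul_unit_mem_iff_mem _ hιu).1 ?_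
    rw [h0]
    exact neg_mem h1
  have hden : ∀ x : N, ∃ p : R[X], x - algebraMap R[X] N p ∈ Ideal.span {tN ^ d} := by
    intro x
    obtain ⟨p, hp⟩ := exists_sub_mem_map_pow (Ideal.span {(X : R[X])}) (fun z => by
      obtain ⟨q, hq⟩ := hbij.2 (Ideal.Quotient.mk _ z)
      obtain ⟨q, rfl⟩ := Ideal.Quotient.mk_surjective q
      rw [Ideal.quotientMap_mk, Ideal.Quotient.eq] at hq
      exact ⟨q, (Submodule.neg_mem_iff _).1 (by rwa [neg_sub])⟩) d x
    refine ⟨p, ?_⟩
    rwa [Ideal.span_singleton_pow, Ideal.map_span, Set.image_singleton, map_pow] at hp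
  haveI : Module.Finite R (CA ⧸ mC) := by
    let e : N →ₐ[R] CA ⧸ mC := (Ideal.Quotient.mkₐ R mC).comp ι
    have hed : e tN ^ d = 0 := by
      rw [← map_pow]
      show Ideal.Quotient.mk mC (ι (tN ^ d)) = 0
      rw [map_pow, Ideal.Quotient.eq_zero_iff_mem]
      exact hta
    let e' : R[X] →ₐ[R] CA ⧸ mC := e.comp (IsScalarTower.toAlgHom R R[X] N)
    let Φ : R[X] ⧸ Ideal.span {(X : R[X]) ^ d} →ₐ[R] CA ⧸ mC := Ideal.Quotient.liftₐ _ e' (fun z hz => by
      obtain ⟨w, rfl⟩ := Ideal.mem_span_singleton'.1 hz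
      show e' (w * X ^ d) = 0
      rw [map_mul, map_pow]
      show _ * e tN ^ d = 0
      rw [hed, mul_zero])
    have hΦN : ∀ x : N, e x ∈ Φ.range := fun x => by
      obtain ⟨p, hp⟩ := hden x
      obtain ⟨w, hw⟩ := Ideal.mem_span_singleton'.1 hp
      refine ⟨Ideal.Quotient.mk _ p, ?_⟩
      show e (algebraMap R[X] N p) = e x
      rw [← sub_eq_zero, ← map_sub, show algebraMap R[X] N p - x = -(w * tN ^ d) by rw [hw]; ring, map_neg,
        map_mul, map_pow, hed, mul_zero, neg_zero]
    obtain ⟨p, hp⟩ := hden u'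
    obtain ⟨w, hw⟩ := Ideal.mem_span_singleton'.1 hp
    have hΦu : Φ (Ideal.Quotient.mk _ p) = e u' := by
      show e (algebraMap R[X] N p) = _
      rw [← sub_eq_zero, ← map_sub, show algebraMap R[X] N p - u' = -(w * tN ^ d) by rw [hw]; ring, map_neg,
        map_mul, map_pow, hed, mul_zero, neg_zero]
    haveI : Module.Finite R (R[X] ⧸ Ideal.span {(X : R[X]) ^ d}) := (monic_X_pow d).finite_adjoinRoot
    refine Module.Finite.of_surjective Φ.toLinearMap fun z => ?_
    obtain ⟨z, rfl⟩ := Ideal.Quotient.mk_surjective z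
    obtain ⟨⟨x, ⟨_, m, rfl⟩⟩, hx⟩ := IsLocalization.surj (Submonoid.powers (Ideal.Quotient.mk (Ideal.span {g'}) u')) z
    obtain ⟨x, rfl⟩ := Ideal.Quotient.mk_surjective x
    rcases Nat.eq_zero_or_pos d with rfl | hd
    · refine ⟨0, ?_⟩
      rw [map_zero, eq_comm, Ideal.Quotient.eq_zero_iff_mem]
      rw [pow_zero] at hta
      rw [(Ideal.eq_top_iff_one _).2 hta]
      trivial
    have hp0 : IsUnit (p.coeff 0) := by
      by_contra hp0
      refine not_mem_fibre_sup_span hB hu ?_
      have h1 := congrArg (algebraMap N B) hw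
      rw [map_mul, map_pow, map_sub, hu', htN, ← IsScalarTower.algebraMap_apply, ← IsScalarTower.algebraMap_apply]
        at h1
      rw [show u = algebraMap R[X] B (C (p.coeff 0)) + (algebraMap R[X] B (p - C (p.coeff 0)) +
        algebraMap N B w * algebraMap R[X] B X ^ d) by rw [h1, map_sub]; ring]
      refine add_mem (Submodule.mem_sup_left ?_) (Submodule.mem_sup_right (add_mem ?_ ?_))
      · rw [← Polynomial.algebraMap_eq, ← IsScalarTower.algebraMap_apply]
        exact Ideal.mem_map_of_mem _ hp0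
      · exact Ideal.mem_span_singleton.2 (map_dvd _ X_dvd_sub_C)
      · exact Ideal.mul_mem_left _ _ (Ideal.pow_mem_of_mem _ (Ideal.mem_span_singleton_self _) _ hd)
    have hpu : IsUnit (Ideal.Quotient.mk (Ideal.span {(X : R[X]) ^ d}) p) := by
      obtain ⟨q, hq⟩ := X_dvd_sub_C (p := p)
      rw [show p = C (p.coeff 0) + X * q by linear_combination hq, map_add]
      refine IsNilpotent.isUnit_add_left_of_commute ⟨d, ?_⟩ ((hp0.map C).map _) (Commute.all _ _)
      rw [← map_pow, Ideal.Quotient.eq_zero_iff_mem, mul_pow]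
      exact Ideal.mul_mem_right _ _ (Ideal.mem_span_singleton_self _)
    obtain ⟨v, hv⟩ := hpu
    obtain ⟨x₁, hx₁⟩ := hΦN x
    refine ⟨x₁ * ↑(v ^ m)⁻¹, ?_⟩
    have hu1 : IsUnit (Φ (↑(v ^ m) : R[X] ⧸ Ideal.span {(X : R[X]) ^ d})) := (v ^ m).isUnit.map Φ
    refine hu1.mul_left_inj.1 ?_
    show Φ (x₁ * ↑(v ^ m)⁻¹) * Φ ↑(v ^ m) = _
    rw [← map_mul, mul_assoc, Units.inv_mul, mul_one, show Φ x₁ = e x from hx₁, Units.val_pow_eq_pow_val, hv, map_pow,
      hΦu]
    show e x = Ideal.Quotient.mk mC z * e u' ^ m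
    rw [← map_pow]
    show Ideal.Quotient.mk mC (ι x) = _ * Ideal.Quotient.mk mC (ι (u' ^ m))
    rw [← map_mul]
    congr 1
    simpa [ι] using hx.symm
  obtain ⟨g₀, hg₀, _⟩ := exists_sub_one_mem_finite (R := CA) (IsLocalRing.maximalIdeal R)
  let D := Localization.Away g₀
  let κ : N →ₐ[R] D := (IsScalarTower.toAlgHom R CA D).comp ι
  haveI hD : HenselianRing D (Ideal.span {κ tN}) := henselian_of_pow_mem (R := R) (n := d) (by
    have := Ideal.mem_map_of_mem (algebraMap CA D) hta
    rw [Ideal.map_map, ← IsScalarTower.algebraMap_eq, map_pow] at this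
    exact this)
  letI algD : Algebra R[X] D := (κ.toRingHom.comp (algebraMap R[X] N)).toAlgebra
  have hXD : (Ideal.span {(X : R[X])}).map (algebraMap R[X] D) ≤ Ideal.span {κ tN} := by
    rw [Ideal.map_span, Set.image_singleton]
    exact le_rfl
  obtain ⟨β, hβ, -⟩ := hB.2 D _ (algebraMap R[X] D) hD hXD
  have hβN : ∀ x : N, β (algebraMap N B x) = κ x := by
    obtain ⟨uq⟩ := existsUnique_algHom_of_bijective (A' := N) hbij (Ideal.span {κ tN}) hXD
    let k₁ : N →ₐ[R[X]] D := { β.comp (algebraMap N B) with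
      commutes' := fun p => by
        show β (algebraMap N B (algebraMap R[X] N p)) = _
        rw [← IsScalarTower.algebraMap_apply]
        exact RingHom.congr_fun hβ p }
    let k₂ : N →ₐ[R[X]] D := { κ.toRingHom with commutes' := fun p => rfl }
    intro x
    exact AlgHom.congr_fun ((uq.uniq k₁).trans (uq.uniq k₂).symm) x
  -- the map back
  letI := Ideal.Quotient.commRing (Ideal.span {f})
  let γ₀ : N ⧸ Ideal.span {g'} →ₐ[R] B ⧸ Ideal.span {f} :=
    Ideal.Quotient.liftₐ _ ((Ideal.Quotient.mkₐ R _).comp (IsScalarTower.toAlgHom R N B)) (fun z hz => by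
      obtain ⟨w, rfl⟩ := Ideal.mem_span_singleton'.1 hz
      show Ideal.Quotient.mk (Ideal.span {f}) (algebraMap N B (w * g')) = 0
      rw [map_mul, hg'B, Ideal.Quotient.eq_zero_iff_mem]
      exact Ideal.mul_mem_left _ _ (Ideal.mem_span_singleton_self f))
  have hγ₀u : IsUnit (γ₀ (Ideal.Quotient.mk _ u')) := by
    show IsUnit (Ideal.Quotient.mk _ (algebraMap N B u'))
    rw [hu']
    exact hu.map _
  let γ₁ : CA →ₐ[R] B ⧸ Ideal.span {f} := IsLocalization.Away.liftAlgHom (A := R)
    (Ideal.Quotient.mk (Ideal.span {g'}) u') (f := γ₀) hγ₀u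
  have hγ₁ : ∀ x : N, γ₁ (ι x) = Ideal.Quotient.mk _ (algebraMap N B x) := fun x => by
    exact IsLocalization.Away.lift_eq (g := γ₀.toRingHom) (Ideal.Quotient.mk (Ideal.span {g'}) u') hγ₀u
      (Ideal.Quotient.mk _ x)
  have hg₀u : IsUnit (γ₁ g₀) := by
    have h1 := Ideal.mem_map_of_mem γ₁.toRingHom hg₀
    rw [Ideal.map_map, show γ₁.toRingHom.comp (algebraMap R CA) = algebraMap R (B ⧸ Ideal.span {f}) from
      γ₁.comp_algebraMap] at h1
    rw [IsScalarTower.algebraMap_eq R B (B ⧸ Ideal.span {f}), ← Ideal.map_map] at h1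
    obtain ⟨b, hb, hb'⟩ := (Ideal.mem_map_iff_of_surjective _ Ideal.Quotient.mk_surjective).1 h1
    have hne : (IsLocalRing.maximalIdeal R).map (algebraMap R B) ≠ ⊤ := fun h =>
      not_mem_fibre_sup_span hB isUnit_one (Submodule.mem_sup_left (h ▸ Submodule.mem_top))
    have hb1 : IsUnit (1 - b) := IsLocalRing.isUnit_one_sub_self_of_mem_nonunits b
      (IsLocalRing.le_maximalIdeal hne hb)
    have hb2 := hb1.map (Ideal.Quotient.mk (Ideal.span {f}))
    rw [map_sub, map_one, hb'] at hb2
    simpa using hb2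
  let γ : D →ₐ[R] B ⧸ Ideal.span {f} := IsLocalization.Away.liftAlgHom (A := R) g₀ (f := γ₁) hg₀u
  have hγ : ∀ x : N, γ (κ x) = Ideal.Quotient.mk _ (algebraMap N B x) := fun x => by
    exact (IsLocalization.Away.lift_eq (g := γ₁.toRingHom) g₀ hg₀u (ι x)).trans (hγ₁ x)
  haveI hJ := henselianRing_quotient (Ideal.span {f}) ((Ideal.span {(X : R[X])}).map (algebraMap R[X] B))
  have hmk : γ.toRingHom.comp β = Ideal.Quotient.mk _ := by
    refine IsPairHenselization.ringHom_ext hB _ (hJ := hJ) (RingHom.ext fun p => ?_) ?_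
    · show γ (β (algebraMap R[X] B p)) = _
      rw [IsScalarTower.algebraMap_apply R[X] N B, hβN, hγ, ← IsScalarTower.algebraMap_apply]
      rfl
    · rw [RingHom.comp_assoc, hβ, Ideal.map_map]
      refine le_of_eq (congrArg (fun φ => Ideal.map φ _) (RingHom.ext fun p => ?_))
      show γ (κ (algebraMap R[X] N p)) = Ideal.Quotient.mk _ (algebraMap R[X] B p)
      rw [hγ, ← IsScalarTower.algebraMap_apply]
  refine Module.Finite.of_surjective γ.toLinearMap fun z => ?_
  obtain ⟨b, rfl⟩ := Ideal.Quotient.mk_surjective z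
  exact ⟨β b, RingHom.congr_fun hmk b⟩

include hB in
/-- Weierstrass preparation. -/
theorem exists_prep {f : B} (hf : f ∉ (IsLocalRing.maximalIdeal R).map (algebraMap R B)) :
    ∃ (P : R[X]) (u : Bˣ), P.Monic ∧ (∀ i < P.natDegree, P.coeff i ∈ IsLocalRing.maximalIdeal R) ∧
      f = algebraMap R[X] B P * u := by
  classical
  haveI := isLocalRing hB
  obtain ⟨d, u, hu, hfu⟩ := exists_fibre_order hB hf
  haveI := finite_quotient hB hu hfu
  letI := Ideal.Quotient.commRing (Ideal.span {f})
  set x : B ⧸ Ideal.span {f} := Ideal.Quotient.mk _ (algebraMap R[X] B X) with hx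
  set W := Submodule.span R (Set.range fun i : Fin d => x ^ (i : ℕ)) with hW
  have hxd : x ^ d ∈ IsLocalRing.maximalIdeal R • (⊤ : Submodule R (B ⧸ Ideal.span {f})) := by
    rw [Ideal.smul_top_eq_map, Submodule.restrictScalars_mem, IsScalarTower.algebraMap_eq R B, ← Ideal.map_map]
    have h1 := Ideal.mem_map_of_mem (algebraMap B (B ⧸ Ideal.span {f})) hfu
    rw [Ideal.Quotient.algebraMap_eq] at h1 ⊢
    rw [map_sub, map_mul, map_pow, Ideal.Quotient.eq_zero_iff_mem.2 (Ideal.mem_span_singleton_self f), zero_sub,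
      neg_mem_iff, ← hx] at h1
    exact (Ideal.mul_unit_mem_iff_mem _ (hu.map _)).1 h1
  have hle : (⊤ : Submodule R (B ⧸ Ideal.span {f})) ≤ W ⊔ IsLocalRing.maximalIdeal R • ⊤ := by
    intro z _
    obtain ⟨b, rfl⟩ := Ideal.Quotient.mk_surjective z
    obtain ⟨p, c, hc⟩ := exists_sub_algebraMap hB d b
    rw [sub_eq_iff_eq_add'] at hc
    rw [hc, map_add, map_mul, map_pow, ← hx]
    refine add_mem ?_ (Submodule.mem_sup_right ?_)
    · rw [p.as_sum_range_C_mul_X_pow, map_sum, map_sum]
      refine sum_mem fun i _ => ?_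
      rw [map_mul, map_mul, map_pow, map_pow, ← hx, ← Polynomial.algebraMap_eq,
        ← IsScalarTower.algebraMap_apply R R[X] B, ← Ideal.Quotient.algebraMap_eq,
        ← IsScalarTower.algebraMap_apply R B, ← Algebra.smul_def]
      rcases lt_or_ge i d with hi | hi
      · exact Submodule.mem_sup_left (Submodule.smul_mem _ _ (Submodule.subset_span ⟨⟨i, hi⟩, rfl⟩))
      · refine Submodule.mem_sup_right (Submodule.smul_mem _ _ ?_)
        obtain ⟨j, rfl⟩ := Nat.exists_eq_add_of_le hi
        rw [pow_add, Ideal.smul_top_eq_map, Submodule.restrictScalars_mem]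
        rw [Ideal.smul_top_eq_map, Submodule.restrictScalars_mem] at hxd
        exact Ideal.mul_mem_right _ _ hxd
    · rw [Ideal.smul_top_eq_map, Submodule.restrictScalars_mem] at hxd ⊢
      exact Ideal.mul_mem_right _ _ hxd
  have htop := Submodule.le_of_le_smul_of_le_jacobson_bot Module.Finite.fg_top
    (IsLocalRing.maximalIdeal_le_jacobson _) hle
  obtain ⟨a, ha⟩ := (Submodule.mem_span_range_iff_exists_fun R).1 (htop (Submodule.mem_top (x := x ^ d)))
  let P : R[X] := X ^ d - ∑ i : Fin d, C (a i) * X ^ (i : ℕ)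
  have hdeg : (∑ i : Fin d, C (a i) * X ^ (i : ℕ)).degree < (d : WithBot ℕ) :=
    (degree_sum_le _ _).trans_lt ((Finset.sup_lt_iff (WithBot.bot_lt_coe d)).mpr fun i _ =>
      (degree_C_mul_X_pow_le _ _).trans_lt (Nat.cast_lt.mpr i.isLt))
  have hmon : P.Monic := monic_X_pow_sub hdeg
  have hnd : P.natDegree = d := by
    refine natDegree_eq_of_degree_eq_some ?_
    rw [degree_sub_eq_left_of_degree_lt (by rwa [degree_X_pow]), degree_X_pow]
  have hPf : algebraMap R[X] B P ∈ Ideal.span {f} := by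
    rw [← Ideal.Quotient.eq_zero_iff_mem, map_sub, map_sub, map_pow, map_pow, ← hx, map_sum, map_sum, sub_eq_zero, ← ha]
    refine Finset.sum_congr rfl fun i _ => ?_
    rw [map_mul, map_mul, map_pow, map_pow, ← hx, ← Polynomial.algebraMap_eq,
      ← IsScalarTower.algebraMap_apply R R[X] B, ← Ideal.Quotient.algebraMap_eq,
      ← IsScalarTower.algebraMap_apply R B, ← Algebra.smul_def]
  obtain ⟨v, hv⟩ := Ideal.mem_span_singleton'.1 hPf
  have hfmem : f ∈ (IsLocalRing.maximalIdeal R).map (algebraMap R B) ⊔ Ideal.span {algebraMap R[X] B X ^ d} := by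
    rw [show f = (f - algebraMap R[X] B X ^ d * u) + algebraMap R[X] B X ^ d * u by ring]
    exact add_mem (Submodule.mem_sup_left hfu)
      (Submodule.mem_sup_right (Ideal.mul_mem_right _ _ (Ideal.mem_span_singleton_self _)))
  have hcoef : ∀ i < P.natDegree, P.coeff i ∈ IsLocalRing.maximalIdeal R := by
    rw [hnd]
    refine mem_sup_X_pow_iff.1 (mem_of_algebraMap_mem hB ?_)
    rw [← hv]
    exact Ideal.mul_mem_left _ _ hfmem
  have hvu : IsUnit v := by
    by_contra hvn
    obtain ⟨p, hp⟩ := exists_sub_algebraMap hB 1 v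
    rw [pow_one] at hp
    obtain ⟨c, hc⟩ := hp
    have hp0 : p.coeff 0 ∈ IsLocalRing.maximalIdeal R := fun h => hvn (isUnit_of_constant hB ⟨c, hc⟩ h)
    obtain ⟨q, hq⟩ := X_dvd_sub_C (p := p)
    have hq' := congrArg (algebraMap R[X] B) hq
    rw [map_sub, map_mul, ← Polynomial.algebraMap_eq, ← IsScalarTower.algebraMap_apply] at hq'
    have hmem : algebraMap R[X] B P ∈ (IsLocalRing.maximalIdeal R).map (algebraMap R B) ⊔
        Ideal.span {algebraMap R[X] B X ^ (d + 1)} := by
      rw [← hv, show v * f = algebraMap R B (p.coeff 0) * f +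
        (c + algebraMap R[X] B q) * algebraMap R[X] B X * (f - algebraMap R[X] B X ^ d * u) +
        (c + algebraMap R[X] B q) * u * algebraMap R[X] B X ^ (d + 1) by linear_combination f * hc + f * hq']
      exact add_mem (add_mem (Submodule.mem_sup_left (Ideal.mul_mem_right _ _ (Ideal.mem_map_of_mem _ hp0)))
        (Submodule.mem_sup_left (Ideal.mul_mem_left _ _ hfu)))
        (Submodule.mem_sup_right (Ideal.mul_mem_left _ _ (Ideal.mem_span_singleton_self _)))
    have := mem_sup_X_pow_iff.1 (mem_of_algebraMap_mem hB hmem) d (Nat.lt_succ_self d)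
    rw [← hnd, hmon.coeff_natDegree] at this
    exact (IsLocalRing.maximalIdeal.isMaximal R).ne_top ((Ideal.eq_top_iff_one _).2 this)
  exact ⟨P, hvu.unit⁻¹, hmon, hcoef, by
    rw [← hv, mul_comm v f, mul_assoc, IsUnit.mul_val_inv, mul_one]⟩

include hB in
theorem isSMulRegular_of_monic {P : R[X]} (hP : P.Monic) {b : B} (h : algebraMap R[X] B P * b = 0) : b = 0 := by
  haveI := IsPairHenselization.flat hB
  have hreg : IsSMulRegular R[X] P := fun x y hxy => hP.isRegular.left hxy
  have := hreg.of_flat (S := B)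
  exact this (show algebraMap R[X] B P • b = algebraMap R[X] B P • 0 by rw [smul_eq_mul, smul_zero, h])

end GrothLib.HensPrep1
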